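import Mathlib

/-! Counting the conjugates of the non-trivial elements of a trivial intersection subgroup. -/

set_option autoImplicit false

namespace Cfsg.Agent.Lib.SzTori

variable {G : Type*} [Group G]

/-- The conjugates of the non-trivial elements of a subgroup. -/
def conjSet (C : Subgroup G) : Set G := {y | ∃ g c, c ∈ C ∧ c ≠ 1 ∧ g * c * g⁻¹ = y}

theorem conjSet_map (C : Subgroup G) (x : G) :
    conjSet (C.map (MulAut.conj x).toMonoidHom) = conjSet C := by
  ext y
  constructor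
  · rintro ⟨g, _, ⟨c, hc, rfl⟩, h1, rfl⟩
    refine ⟨g * x, c, hc, fun z => h1 (by simp [z]), ?_⟩
    simp [mul_assoc]
  · rintro ⟨g, c, hc, h1, rfl⟩
    exact ⟨g * x⁻¹, x * c * x⁻¹, ⟨c, hc, rfl⟩, fun z => h1 (conj_eq_one_iff.1 z), by group⟩

theorem ti_of_centralizer (C : Subgroup G)
    (hC : ∀ c ∈ C, c ≠ 1 → Subgroup.centralizer ({c} : Set G) = C) :
    ∀ g c, c ∈ C → c ≠ 1 → g * c * g⁻¹ ∈ C → g ∈ Subgroup.normalizer (C : Set G) := by
  intro g c hc h1 hg
  have h2 := hC _ hg (fun z => h1 (conj_eq_one_iff.1 z))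
  have hmem : ∀ d, d ∈ Subgroup.centralizer ({c} : Set G) ↔
      g * d * g⁻¹ ∈ Subgroup.centralizer ({g * c * g⁻¹} : Set G) := by
    intro d
    simp only [Subgroup.mem_centralizer_iff, Set.mem_singleton_iff, forall_eq]
    simp only [mul_assoc, inv_mul_cancel_left, mul_right_inj]
    rw [← mul_assoc c d, ← mul_assoc d c, mul_left_inj]
  rw [h2, hC c hc h1] at hmem
  exact Subgroup.mem_normalizer_iff.2 hmem

theorem card_conjSet [Finite G] (C : Subgroup G)
    (hTI : ∀ g c, c ∈ C → c ≠ 1 → g * c * g⁻¹ ∈ C → g ∈ Subgroup.normalizer (C : Set G)) :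
    Nat.card (conjSet C) * Nat.card (Subgroup.normalizer (C : Set G)) =
      (Nat.card C - 1) * Nat.card G := by
  classical
  let D : Type _ := {c : C // c ≠ 1}
  let f : G × D → conjSet C := fun p => ⟨p.1 * (p.2.1 : G) * p.1⁻¹, p.1, p.2.1, p.2.1.2,
    fun z => p.2.2 (Subtype.ext z), rfl⟩
  have hfib : ∀ y : conjSet C,
      Nat.card {p : G × D // f p = y} = Nat.card (Subgroup.normalizer (C : Set G)) := by
    rintro ⟨y, g0, c0, hc0, h0, rfl⟩
    symm
    refine Nat.card_eq_of_bijective (fun n => ⟨(g0 * (n : G), ⟨⟨(n : G)⁻¹ * c0 * n, by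
        have := (Subgroup.mem_normalizer_iff.1 ((Subgroup.normalizer (C : Set G)).inv_mem n.2) c0).1 hc0
        rwa [inv_inv] at this⟩, fun z => h0 (by
          have z1 : (n : G)⁻¹ * c0 * n = 1 := congrArg Subtype.val z
          simpa [mul_assoc] using congrArg (fun w => (n : G) * w * (n : G)⁻¹) z1)⟩), Subtype.ext (by
        simp [f, mul_assoc])⟩) ⟨?_, ?_⟩
    · intro a b e
      have := congrArg (fun q : {p : G × D // _} => q.1.1) e
      exact Subtype.ext (mul_left_cancel this)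
    · rintro ⟨⟨g, c⟩, hp⟩
      have hp' : g * (c.1 : G) * g⁻¹ = g0 * c0 * g0⁻¹ := congrArg Subtype.val hp
      have hn : g0⁻¹ * g ∈ Subgroup.normalizer (C : Set G) := by
        refine hTI _ c.1 c.1.2 (fun z => c.2 (Subtype.ext z)) ?_
        rw [show g0⁻¹ * g * (c.1 : G) * (g0⁻¹ * g)⁻¹ = g0⁻¹ * (g * c.1 * g⁻¹) * g0 by group, hp']
        simpa [mul_assoc] using hc0
      refine ⟨⟨_, hn⟩, Subtype.ext (Prod.ext (by simp) (Subtype.ext (Subtype.ext ?_)))⟩
      show (g0⁻¹ * g)⁻¹ * c0 * (g0⁻¹ * g) = c.1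
      rw [show (g0⁻¹ * g)⁻¹ * c0 * (g0⁻¹ * g) = g⁻¹ * (g0 * c0 * g0⁻¹) * g by group, ← hp']
      group
  have hsum : Nat.card (G × D) = Nat.card (conjSet C) * Nat.card (Subgroup.normalizer (C : Set G)) := by
    haveI : Fintype (conjSet C) := Fintype.ofFinite _
    rw [← Nat.card_congr (Equiv.sigmaFiberEquiv f), Nat.card_sigma]
    simp [hfib]
  have hD : Nat.card D = Nat.card C - 1 := by
    haveI : Fintype C := Fintype.ofFinite _
    rw [Nat.card_eq_fintype_card, Nat.card_eq_fintype_card, Fintype.card_subtype_compl,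
      Fintype.card_subtype_eq]
  rw [← hsum, Nat.card_prod, hD, mul_comm]

end Cfsg.Agent.Lib.SzTori
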