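import Cfsg.Agent.Lib.SzTori.Basic
import Cfsg.Agent.Lib.SzTori.TICount
import Mathlib

/-! Normalisers of the three kinds of trivial intersection subgroups. -/

set_option autoImplicit false
set_option linter.unusedSectionVars false

namespace Cfsg.Agent.Lib.SzTori

open Cfsg.Agent.Lib.LieTwisted.Suzuki Cfsg.Agent.Lib.SzElements.Basic

variable {F : Type*} [Field F] [Fintype F] {m : ℕ} (h : IsSzField F m) (hm : 1 ≤ m)
include h hm

theorem exists_ne_one : ∃ e : Fˣ, e ≠ 1 := by
  obtain ⟨t, h0, h1⟩ := h.exists_ne01 hm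
  exact ⟨Units.mk0 t h0, fun z => h1 (congrArg Units.val z)⟩

theorem ti_unip : ∀ g c, c ∈ unip h → c ≠ 1 → g * c * g⁻¹ ∈ unip h →
    g ∈ Subgroup.normalizer (unip h : Set (Cfsg.Sz F m)) := by
  rintro g _ ⟨a, b, rfl⟩ h1 ⟨a', b', hg⟩
  obtain ⟨c, d, e, rfl⟩ := borel_of_conj h hm (fun z => h1 (by rw [z.1, z.2, h.uS_zero]))
    (fun z => h1 (by
      rw [z.1, z.2, h.uS_zero] at hg
      exact conj_eq_one_iff.1 hg)) hg
  rw [h.normalizer_unip hm, MulAction.mem_stabilizer_iff, ← opt_none (m := m), mul_smul,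
    h.dS_smul_none, h.uS_smul_none]

theorem ti_torus : ∀ g c, c ∈ (dS h).range → c ≠ 1 → g * c * g⁻¹ ∈ (dS h).range →
    g ∈ Subgroup.normalizer ((dS h).range : Set (Cfsg.Sz F m)) := by
  refine ti_of_centralizer _ ?_
  rintro _ ⟨e, rfl⟩ h1
  exact centralizer_dS h hm fun z => h1 (by rw [z, map_one])

theorem card_range_dS : Nat.card (dS h).range = Fintype.card F - 1 := by
  rw [← Nat.card_congr (MonoidHom.ofInjective h.dS_injective).toEquiv, Nat.card_units,
    Nat.card_eq_fintype_card]

theorem card_normalizer_torus :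
    Nat.card (Subgroup.normalizer ((dS h).range : Set (Cfsg.Sz F m))) = 2 * (Fintype.card F - 1) := by
  have hw : wS h ∈ Subgroup.normalizer ((dS h).range : Set (Cfsg.Sz F m)) := by
    rw [Subgroup.mem_normalizer_iff]
    have hc : ∀ e, wS h * dS h e * (wS h)⁻¹ = dS h e⁻¹ := fun e => by
      rw [h.wS_mul_dS, mul_inv_cancel_right]
    intro g
    constructor
    · rintro ⟨e, rfl⟩
      exact ⟨e⁻¹, (hc e).symm⟩
    · rintro ⟨e, he⟩
      refine ⟨e⁻¹, ?_⟩
      rw [← hc, he, h.wS_inv]
      simp only [mul_assoc]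
      rw [h.wS_mul_self, mul_one, ← mul_assoc, h.wS_mul_self, one_mul]
  have hle : ∀ e, dS h e ∈ Subgroup.normalizer ((dS h).range : Set (Cfsg.Sz F m)) := fun e =>
    Subgroup.le_normalizer ⟨e, rfl⟩
  let f : Bool × Fˣ → Subgroup.normalizer ((dS h).range : Set (Cfsg.Sz F m)) := fun p =>
    ⟨cond p.1 (wS h) 1 * dS h p.2, mul_mem (by cases p.1; exacts [one_mem _, hw]) (hle _)⟩
  have hwd : ∀ a, wS h ≠ dS h a := fun a z => by
    have h1 := congrArg (fun g => g • opt m (none : Option (F × F))) z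
    simp only [h.wS_smul_none, h.dS_smul_none] at h1
    exact absurd (opt_injective h1) (by simp)
  have hinj : Function.Injective f := by
    rintro ⟨b, a⟩ ⟨b', a'⟩ e
    have e' : cond b (wS h) 1 * dS h a = cond b' (wS h) 1 * dS h a' := congrArg Subtype.val e
    cases b <;> cases b' <;> simp only [cond_true, cond_false, one_mul] at e'
    · rw [h.dS_injective e']
    · exact absurd (eq_mul_inv_of_mul_eq e'.symm) (by rw [← map_inv, ← map_mul]; exact hwd _)
    · exact absurd (eq_mul_inv_of_mul_eq e') (by rw [← map_inv, ← map_mul]; exact hwd _)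
    · rw [h.dS_injective (mul_left_cancel e')]
  have hsurj : Function.Surjective f := by
    rintro ⟨g, hg⟩
    obtain ⟨e, he⟩ := exists_ne_one h hm
    obtain ⟨f', hf'⟩ := (Subgroup.mem_normalizer_iff.1 hg (dS h e)).1 ⟨e, rfl⟩
    rcases conj_dS_cases h hm he hf'.symm with ⟨a, rfl, -⟩ | ⟨a, rfl, -⟩
    · exact ⟨(false, a), Subtype.ext (one_mul _)⟩
    · exact ⟨(true, a), rfl⟩
  rw [← Nat.card_eq_of_bijective f ⟨hinj, hsurj⟩, Nat.card_prod, Nat.card_units, Nat.card_eq_fintype_card,
    Nat.card_eq_fintype_card, Fintype.card_bool]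

open scoped Classical in
theorem torus_normalizer {g : Cfsg.Sz F m} (hg : InE g) :
    ∃ e, e ∣ 4 ∧ Nat.card (Subgroup.normalizer
      (Subgroup.centralizer ({g} : Set (Cfsg.Sz F m)) : Set (Cfsg.Sz F m))) =
      e * Nat.card (Subgroup.centralizer ({g} : Set (Cfsg.Sz F m))) := by
  obtain ⟨r, hr, hd, j, hj⟩ := exists_prime_power h hm hg
  set u := g ^ j with hudef
  have hu1 : u ≠ 1 := fun z => hr.one_lt.ne' (by rw [← hj, z, orderOf_one])
  have huC : u ∈ Subgroup.centralizer ({g} : Set (Cfsg.Sz F m)) :=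
    mem_centralizer_iff'.2 (Commute.self_pow g j).eq
  rw [← torus_eq h hm hg huC hu1]
  obtain ⟨hord, hK, hKle⟩ := singer h hm hr hj hd
  set C := Subgroup.centralizer ({u} : Set (Cfsg.Sz F m)) with hC
  set N := Subgroup.normalizer (C : Set (Cfsg.Sz F m)) with hN
  set K := Subalgebra.centralizer F ({rho h hm u} : Set (Module.End F (Fin 4 → F))) with hKdef
  have hKmem : ∀ c ∈ C, rho h hm c ∈ K := fun c hc => by
    rw [hKdef, Subalgebra.mem_centralizer_iff]
    rintro _ rfl
    rw [← map_mul, ← map_mul, mem_centralizer_iff'.1 hc]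
  have hcan : ∀ x : Cfsg.Sz F m, rho h hm x⁻¹ * rho h hm x = 1 := fun x => by
    rw [← map_mul, inv_mul_cancel, map_one]
  have hcan' : ∀ x : Cfsg.Sz F m, rho h hm x * rho h hm x⁻¹ = 1 := fun x => by
    rw [← map_mul, mul_inv_cancel, map_one]
  have hmem : ∀ x ∈ N, ∀ k ∈ K, rho h hm x * k * rho h hm x⁻¹ ∈ K := by
    intro x hx k hk
    have hc : x⁻¹ * u * x ∈ C := by
      have := (Subgroup.mem_normalizer_iff.1 (N.inv_mem hx) u).1 (mem_centralizer_iff'.2 rfl)
      rwa [inv_inv] at this
    have hcomm : k * rho h hm (x⁻¹ * u * x) = rho h hm (x⁻¹ * u * x) * k :=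
      congrArg Subtype.val (hK.mul_comm (⟨k, hk⟩ : K) ⟨_, hKmem _ hc⟩)
    rw [hKdef, Subalgebra.mem_centralizer_iff]
    rintro _ rfl
    have e1 : rho h hm u * rho h hm x = rho h hm x * rho h hm (x⁻¹ * u * x) := by
      rw [← map_mul, ← map_mul]; congr 1; group
    have e2 : rho h hm (x⁻¹ * u * x) * rho h hm x⁻¹ = rho h hm x⁻¹ * rho h hm u := by
      rw [← map_mul, ← map_mul]; congr 1; group
    calc rho h hm u * (rho h hm x * k * rho h hm x⁻¹)
        = rho h hm u * rho h hm x * k * rho h hm x⁻¹ := by simp only [mul_assoc]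
      _ = rho h hm x * (rho h hm (x⁻¹ * u * x) * k) * rho h hm x⁻¹ := by rw [e1]; simp only [mul_assoc]
      _ = rho h hm x * k * (rho h hm (x⁻¹ * u * x) * rho h hm x⁻¹) := by
          rw [← hcomm]; simp only [mul_assoc]
      _ = rho h hm x * k * rho h hm x⁻¹ * rho h hm u := by rw [e2]; simp only [mul_assoc]
  let act : N → (K →ₐ[F] K) := fun x =>
    { toFun := fun k => ⟨rho h hm x * k * rho h hm (x : Cfsg.Sz F m)⁻¹, hmem x x.2 k k.2⟩
      map_one' := Subtype.ext (by
        show rho h hm x * 1 * rho h hm (x : Cfsg.Sz F m)⁻¹ = 1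
        rw [mul_one, hcan'])
      map_mul' := fun a b => Subtype.ext (by
        show rho h hm x * ((a : Module.End F (Fin 4 → F)) * b) * rho h hm (x : Cfsg.Sz F m)⁻¹ =
          rho h hm x * a * rho h hm (x : Cfsg.Sz F m)⁻¹ * (rho h hm x * b * rho h hm (x : Cfsg.Sz F m)⁻¹)
        rw [show rho h hm x * (a : Module.End F (Fin 4 → F)) * rho h hm (x : Cfsg.Sz F m)⁻¹ *
            (rho h hm x * b * rho h hm (x : Cfsg.Sz F m)⁻¹) = rho h hm x * a *
            (rho h hm (x : Cfsg.Sz F m)⁻¹ * rho h hm x) * b * rho h hm (x : Cfsg.Sz F m)⁻¹ by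
          simp only [mul_assoc], hcan, mul_one]
        simp only [mul_assoc])
      map_zero' := Subtype.ext (by simp)
      map_add' := fun a b => Subtype.ext (by simp [mul_add, add_mul])
      commutes' := fun t => Subtype.ext (by
        show rho h hm x * algebraMap F (Module.End F (Fin 4 → F)) t * rho h hm (x : Cfsg.Sz F m)⁻¹ =
          algebraMap F (Module.End F (Fin 4 → F)) t
        rw [← Algebra.commutes, mul_assoc, hcan', mul_one]) }
  have hmul : ∀ (x y : N) (k : K), act x (act y k) = act (x * y) k := fun x y k => by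
    refine Subtype.ext ?_
    show rho h hm x * (rho h hm y * k * rho h hm (y : Cfsg.Sz F m)⁻¹) * rho h hm (x : Cfsg.Sz F m)⁻¹ =
      rho h hm ((x : Cfsg.Sz F m) * y) * k * rho h hm ((x : Cfsg.Sz F m) * y)⁻¹
    simp only [mul_inv_rev, map_mul, mul_assoc]
  have hone : ∀ k : K, act 1 k = k := fun k => by
    refine Subtype.ext ?_
    show rho h hm 1 * k * rho h hm (1 : Cfsg.Sz F m)⁻¹ = k
    simp
  let ψ : N →* (K ≃ₐ[F] K) :=
    { toFun := fun x => AlgEquiv.ofAlgHom (act x) (act x⁻¹)
        (AlgHom.ext fun k => by show act x (act x⁻¹ k) = k; rw [hmul, mul_inv_cancel, hone])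
        (AlgHom.ext fun k => by show act x⁻¹ (act x k) = k; rw [hmul, inv_mul_cancel, hone])
      map_one' := AlgEquiv.ext hone
      map_mul' := fun x y => AlgEquiv.ext fun k => (hmul x y k).symm }
  have hker : ψ.ker = C.subgroupOf N := by
    ext x
    rw [MonoidHom.mem_ker, Subgroup.mem_subgroupOf]
    constructor
    · intro hx
      have h1 : act x ⟨rho h hm u, hKmem u (mem_centralizer_iff'.2 rfl)⟩ =
          ⟨rho h hm u, hKmem u (mem_centralizer_iff'.2 rfl)⟩ := DFunLike.congr_fun hx _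
      have h2 : rho h hm ((x : Cfsg.Sz F m) * u * (x : Cfsg.Sz F m)⁻¹) = rho h hm u := by
        rw [map_mul, map_mul]; exact congrArg Subtype.val h1
      have h3 := rho_injective h hm h2
      rw [hC, mem_centralizer_iff']
      exact (mul_inv_eq_iff_eq_mul.1 h3).symm
    · intro hx
      refine AlgEquiv.ext fun k => Subtype.ext ?_
      show rho h hm x * k * rho h hm (x : Cfsg.Sz F m)⁻¹ = k
      have : rho h hm x * (k : Module.End F (Fin 4 → F)) = k * rho h hm x :=
        congrArg Subtype.val (hK.mul_comm (⟨_, hKmem _ hx⟩ : K) k)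
      rw [this, mul_assoc, hcan', mul_one]
  haveI : Finite (Module.End F (Fin 4 → F)) := Finite.of_injective _ DFunLike.coe_injective
  haveI : Finite K := Subtype.finite
  letI : Field K := IsField.toField (R := ↥K) hK
  have hfr : Module.finrank F K = 4 := by
    haveI : Fintype K := Fintype.ofFinite _
    have hcard : Fintype.card K = Fintype.card F ^ Module.finrank F K := Module.card_eq_pow_finrank
    rw [Nat.card_eq_fintype_card, hcard] at hKle
    have hle : Module.finrank F K ≤ 4 :=
      (Nat.pow_le_pow_iff_right (by have := h.two_lt_card hm; omega)).1 hKle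
    have hdvd : 4 ∣ Module.finrank F K := by
      haveI : Fact r.Prime := ⟨hr⟩
      suffices h4 : orderOf (Fintype.card F : ZMod r) ∣ Module.finrank F K by rwa [hord] at h4
      refine orderOf_dvd_of_pow_eq_one ?_
      let v : K := ⟨rho h hm u, hKmem u (mem_centralizer_iff'.2 rfl)⟩
      have hv1 : v ≠ 1 := fun z => hu1 (rho_injective h hm ((congrArg Subtype.val z).trans (map_one _).symm))
      have hvr : v ^ r = 1 := Subtype.ext (by
        show rho h hm u ^ r = 1
        rw [← map_pow, ← hj, pow_orderOf_eq_one, map_one])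
      have hv0 : v ≠ 0 := fun z => by rw [z, zero_pow hr.ne_zero] at hvr; exact zero_ne_one hvr
      have ho : orderOf v = r := orderOf_eq_prime hvr hv1
      have hdv : r ∣ Fintype.card F ^ Module.finrank F K - 1 := by
        rw [← hcard, ← ho]
        exact orderOf_dvd_of_pow_eq_one (FiniteField.pow_card_sub_one_eq_one v hv0)
      have h1le : 1 ≤ Fintype.card F ^ Module.finrank F K := Nat.one_le_pow _ _ Fintype.card_pos
      have := (ZMod.natCast_eq_zero_iff _ r).2 hdv
      rw [Nat.cast_sub h1le, sub_eq_zero, Nat.cast_pow, Nat.cast_one] at this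
      exact this
    have := Module.finrank_pos (R := F) (M := K)
    have := Nat.le_of_dvd (by omega) hdvd
    omega
  refine ⟨Nat.card ψ.range, ?_, ?_⟩
  · have h4 := Subgroup.card_subgroup_dvd_card ψ.range
    rw [IsGalois.card_aut_eq_finrank F K, hfr] at h4
    exact h4
  · have h1 := ψ.ker.card_mul_index
    rw [Subgroup.index_ker, hker, Nat.card_congr (Subgroup.subgroupOfEquivOfLe
      (Subgroup.le_normalizer : C ≤ N)).toEquiv] at h1
    rw [← h1, mul_comm]

end Cfsg.Agent.Lib.SzTori
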