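import Cfsg.Agent.Lib.SzTori.Normalizer
import Mathlib

/-! The two classes of fixed-point-free tori of the Suzuki groups. -/

set_option autoImplicit false
set_option linter.unusedSectionVars false

namespace Cfsg.Agent.Lib.SzTori

open Cfsg.Agent.Lib.LieTwisted.Suzuki Cfsg.Agent.Lib.SzElements.Basic

variable {F : Type*} [Field F] [Fintype F] {m : ℕ} (h : IsSzField F m) (hm : 1 ≤ m)

/-- The centraliser of an element. -/
abbrev cen (g : Cfsg.Sz F m) : Subgroup (Cfsg.Sz F m) :=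
  Subgroup.centralizer ({g} : Set (Cfsg.Sz F m))

include h hm

theorem inE_conj {g : Cfsg.Sz F m} (x : Cfsg.Sz F m) (hg : InE g) : InE (x * g * x⁻¹) :=
  ⟨fun z => hg.1 (conj_eq_one_iff.1 z), by rw [conj_pow, hg.2, mul_one, mul_inv_cancel]⟩

theorem conjSet_inE {g y : Cfsg.Sz F m} (hg : InE g) (hy : y ∈ conjSet (cen g)) :
    InE y ∧ ∃ x, cen y = (cen g).map (MulAut.conj x).toMonoidHom := by
  obtain ⟨x, c, hc, hc1, rfl⟩ := hy
  refine ⟨inE_conj h hm x (torus_inE h hm hg hc hc1), x, ?_⟩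
  rw [cen, centralizer_conj, torus_eq h hm hg hc hc1]

theorem conjSet_eq {g y : Cfsg.Sz F m} (hg : InE g) (hy : y ∈ conjSet (cen g)) :
    conjSet (cen y) = conjSet (cen g) ∧ Nat.card (cen y) = Nat.card (cen g) := by
  obtain ⟨-, x, hx⟩ := conjSet_inE h hm hg hy
  exact ⟨by rw [hx, conjSet_map], by rw [hx, Subgroup.card_map_of_injective (MulAut.conj x).injective]⟩

theorem self_mem_conjSet {g : Cfsg.Sz F m} (hg : InE g) : g ∈ conjSet (cen g) :=
  ⟨1, g, mem_centralizer_iff'.2 rfl, hg.1, by group⟩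

theorem sylow_le {p : ℕ} [Fact p.Prime] (hd : p ∣ Fintype.card F ^ 2 + 1)
    (P : Sylow p (Cfsg.Sz F m)) {u : Cfsg.Sz F m} (hu : u ∈ P) (hu1 : u ≠ 1) :
    InE u ∧ (P : Subgroup (Cfsg.Sz F m)) ≤ cen u := by
  have hP : ∀ w ∈ (P : Subgroup (Cfsg.Sz F m)), w ≠ 1 → InE w := by
    intro w hw hw1
    refine ⟨hw1, orderOf_dvd_iff_pow_eq_one.1 ?_⟩
    obtain ⟨k, hk⟩ := IsPGroup.iff_orderOf.1 P.isPGroup' ⟨w, hw⟩
    rw [← Subgroup.orderOf_coe] at hk
    have hn := orderOf_dvd_natCard w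
    rw [h.card_group hm, mul_comm (Fintype.card F ^ 2), mul_assoc] at hn
    refine Nat.Coprime.dvd_of_dvd_mul_right ?_ hn
    rw [hk]
    exact Nat.Coprime.pow_left k ((Fact.out : p.Prime).coprime_iff_not_dvd.2 (prime_facts h hm Fact.out hd).2)
  haveI : Nontrivial (P : Subgroup (Cfsg.Sz F m)) :=
    ⟨⟨⟨u, hu⟩, 1, fun z => hu1 (congrArg Subtype.val z)⟩⟩
  haveI := P.isPGroup'.center_nontrivial
  obtain ⟨⟨⟨z, hzP⟩, hzc⟩, hz⟩ :=
    exists_ne (1 : Subgroup.center (P : Subgroup (Cfsg.Sz F m)))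
  have hz1 : z ≠ 1 := fun e => hz (Subtype.ext (Subtype.ext e))
  have hPz : (P : Subgroup (Cfsg.Sz F m)) ≤ cen z := fun w hw => mem_centralizer_iff'.2
    (congrArg Subtype.val (Subgroup.mem_center_iff.1 hzc ⟨w, hw⟩)).symm
  refine ⟨hP u hu hu1, ?_⟩
  rw [cen, torus_eq h hm (hP z hzP hz1) (hPz hu) hu1]
  exact hPz

theorem exists_order {g : Cfsg.Sz F m} {p : ℕ} [Fact p.Prime] (hp : p ∣ Nat.card (cen g)) :
    ∃ u ∈ cen g, u ≠ 1 ∧ orderOf u = p := by
  obtain ⟨⟨u, hu⟩, ho⟩ := exists_prime_orderOf_dvd_card' p hp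
  rw [← Subgroup.orderOf_coe] at ho
  refine ⟨u, hu, fun z => ?_, ho⟩
  subst z
  rw [orderOf_one] at ho
  exact (Fact.out : p.Prime).one_lt.ne ho

theorem mem_of_common_prime {g₁ g₂ : Cfsg.Sz F m} (h1 : InE g₁) (h2 : InE g₂) {p : ℕ} [Fact p.Prime]
    (hp1 : p ∣ Nat.card (cen g₁)) (hp2 : p ∣ Nat.card (cen g₂)) : g₂ ∈ conjSet (cen g₁) := by
  have hd : p ∣ Fintype.card F ^ 2 + 1 := hp1.trans (torus_card_dvd h hm h1)
  obtain ⟨u1, hu1, hu1', ho1⟩ := exists_order h hm hp1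
  obtain ⟨u2, hu2, hu2', ho2⟩ := exists_order h hm hp2
  have hpg : ∀ v : Cfsg.Sz F m, orderOf v = p → IsPGroup p (Subgroup.zpowers v) := fun v hv =>
    IsPGroup.of_card (n := 1) (by rw [Nat.card_zpowers, hv, pow_one])
  obtain ⟨P1, hP1⟩ := (hpg u1 ho1).exists_le_sylow
  obtain ⟨P2, hP2⟩ := (hpg u2 ho2).exists_le_sylow
  obtain ⟨x, hx⟩ := MulAction.exists_smul_eq (Cfsg.Sz F m) P1 P2
  obtain ⟨-, hle⟩ := sylow_le h hm hd P1 (hP1 (Subgroup.mem_zpowers u1)) hu1'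
  rw [cen, torus_eq h hm h1 hu1 hu1'] at hle
  have := hP2 (Subgroup.mem_zpowers u2)
  rw [← hx, Sylow.coe_subgroup_smul] at this
  obtain ⟨v, hv, hv2⟩ := this
  have hmem : u2 ∈ conjSet (cen g₁) :=
    ⟨x, v, hle hv, fun z => hu2' (by rw [← hv2, z]; exact map_one (MulAut.conj x)), hv2⟩
  rw [← (conjSet_eq h hm h1 hmem).1, cen, torus_eq h hm h2 hu2 hu2']
  exact self_mem_conjSet h hm h2

theorem coprime_of_notMem {g₁ g₂ : Cfsg.Sz F m} (h1 : InE g₁) (h2 : InE g₂)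
    (hn : g₂ ∉ conjSet (cen g₁)) : (Nat.card (cen g₁)).Coprime (Nat.card (cen g₂)) :=
  Nat.coprime_of_dvd fun p hp hp1 hp2 => hn (by
    haveI : Fact p.Prime := ⟨hp⟩
    exact mem_of_common_prime h hm h1 h2 hp1 hp2)

theorem five_le {g : Cfsg.Sz F m} (hg : InE g) : 5 ≤ Nat.card (cen g) := by
  obtain ⟨r, hr, hd, j, hj⟩ := exists_prime_power h hm hg
  have h1 : orderOf (g ^ j) ∣ Nat.card (cen g) := Subgroup.orderOf_dvd_natCard _
    (mem_centralizer_iff'.2 (Commute.self_pow g j).eq)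
  rw [hj] at h1
  exact (prime_facts h hm hr hd).1.trans (Nat.le_of_dvd Nat.card_pos h1)

/-- The class equation for a torus. -/
theorem class_eq {g : Cfsg.Sz F m} (hg : InE g) :
    ∃ e, e ∈ ({1, 2, 4} : Finset ℕ) ∧
      Nat.card (Subgroup.normalizer (cen g : Set (Cfsg.Sz F m))) = e * Nat.card (cen g) ∧
      Nat.card (conjSet (cen g)) * (e * Nat.card (cen g)) =
        (Nat.card (cen g) - 1) * Nat.card (Cfsg.Sz F m) := by
  obtain ⟨e, he, hN⟩ := torus_normalizer h hm hg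
  have hcount := card_conjSet (cen g) (ti_of_centralizer _ fun c hc hc1 => torus_eq h hm hg hc hc1)
  rw [hN] at hcount
  refine ⟨e, ?_, hN, hcount⟩
  have := Nat.le_of_dvd (by norm_num) he
  interval_cases e <;> simp_all

theorem inE_count :
    2 * Nat.card {g : Cfsg.Sz F m | InE g} = Fintype.card F ^ 3 * (Fintype.card F - 1) ^ 2 := by
  set q := Fintype.card F with hq
  have hq2 : 2 < q := h.two_lt_card hm
  set SU := conjSet (unip h) with hSU
  set ST := conjSet (dS h).range with hST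
  set E := {g : Cfsg.Sz F m | InE g} with hE
  have hU := card_conjSet (unip h) (ti_unip h hm)
  rw [h.card_unip, h.normalizer_unip hm, h.card_stabilizer hm, h.card_group hm, ← hq, ← hSU] at hU
  have hT := card_conjSet (dS h).range (ti_torus h hm)
  rw [card_range_dS h hm, card_normalizer_torus h hm, h.card_group hm, ← hq, ← hST] at hT
  have hU4 : ∀ y ∈ SU, y ≠ 1 ∧ y ^ 4 = 1 ∧ HasFix y := by
    rintro _ ⟨x, c, hc, hc1, rfl⟩
    exact ⟨fun z => hc1 (conj_eq_one_iff.1 z), by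
      rw [conj_pow, pow_four_of_mem h hm hc, mul_one, mul_inv_cancel], hasFix_conj h hm x (hasFix_unip h hm hc)⟩
  have hT4 : ∀ y ∈ ST, y ≠ 1 ∧ y ^ 4 ≠ 1 ∧ HasFix y := by
    rintro _ ⟨x, _, ⟨e, rfl⟩, hc1, rfl⟩
    refine ⟨fun z => hc1 (conj_eq_one_iff.1 z), fun z => hc1 ?_, hasFix_conj h hm x (hasFix_dS h hm e)⟩
    rw [conj_pow, conj_eq_one_iff, ← map_pow, ← map_one (dS h)] at z
    have z' : ((e : F) ^ 2) ^ 2 = 1 := by
      rw [← pow_mul, ← Units.val_pow_eq_pow_val]; exact congrArg Units.val (h.dS_injective z)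
    haveI := h.charTwo
    have h2 : (e : F) ^ 2 = (1 : F) ^ 2 := by
      rw [one_pow]; exact CharTwo.sq_injective (show ((e : F) ^ 2) ^ 2 = (1 : F) ^ 2 by rw [z', one_pow])
    rw [show e = 1 from Units.ext (CharTwo.sq_injective h2), map_one]
  have hsplit : (Set.univ : Set (Cfsg.Sz F m)) = insert 1 (SU ∪ ST ∪ E) := by
    refine Set.ext fun g => ⟨fun _ => ?_, fun _ => trivial⟩
    by_cases h1 : g = 1
    · exact Or.inl h1
    refine Or.inr ?_
    by_cases hf : HasFix g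
    · obtain ⟨x, hx⟩ := fix_cases h hm hf
      have hne : x⁻¹ * g * x ≠ 1 := fun z =>
        h1 (by simpa [mul_assoc] using congrArg (fun w => x * w * x⁻¹) z)
      have hmem : ∀ C : Subgroup (Cfsg.Sz F m), x⁻¹ * g * x ∈ C → g ∈ conjSet C := fun C hC =>
        ⟨x, _, hC, hne, by group⟩
      rcases hx with hx | ⟨e, -, hx⟩
      · exact Or.inl (Or.inl (hmem _ hx))
      · exact Or.inl (Or.inr (hmem _ ⟨e, hx.symm⟩))
    · exact Or.inr (inE_of_not_fix h hm hf)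
  have hd1 : Disjoint SU ST := Set.disjoint_left.2 fun y a b => (hT4 y b).2.1 (hU4 y a).2.1
  have hd2 : Disjoint (SU ∪ ST) E := Set.disjoint_left.2 fun y a b => not_fix_of_inE h hm b
    (a.elim (fun z => (hU4 y z).2.2) (fun z => (hT4 y z).2.2))
  have h1not : (1 : Cfsg.Sz F m) ∉ SU ∪ ST ∪ E := by
    rintro ((z | z) | z)
    · exact (hU4 _ z).1 rfl
    · exact (hT4 _ z).1 rfl
    · exact z.1 rfl
  have hsum := congrArg Set.ncard hsplit
  rw [Set.ncard_univ, Set.ncard_insert_of_notMem h1not (Set.toFinite _),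
    Set.ncard_union_eq hd2 (Set.toFinite _) (Set.toFinite _),
    Set.ncard_union_eq hd1 (Set.toFinite _) (Set.toFinite _), h.card_group hm, ← hq,
    ← Nat.card_coe_set_eq, ← Nat.card_coe_set_eq, ← Nat.card_coe_set_eq] at hsum
  have h1q : 1 ≤ q := by omega
  have h1q2 : 1 ≤ q ^ 2 := Nat.one_le_pow _ _ (by omega)
  have h1q1 : 1 ≤ q - 1 := by omega
  zify [h1q, h1q2, h1q1, (by omega : 2 ≤ q)] at hU hT hsum ⊢
  have hq0 : (q : ℤ) ^ 2 * ((q : ℤ) - 1) ≠ 0 := mul_ne_zero (pow_ne_zero _ (by omega)) (by omega)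
  have eU : (Nat.card SU : ℤ) = ((q : ℤ) ^ 2 - 1) * ((q : ℤ) ^ 2 + 1) :=
    mul_right_cancel₀ hq0 (by linear_combination hU)
  have eT : 2 * (Nat.card ST : ℤ) = ((q : ℤ) - 2) * (q : ℤ) ^ 2 * ((q : ℤ) ^ 2 + 1) := by
    refine mul_right_cancel₀ (show ((q : ℤ) - 1) ≠ 0 by omega) ?_
    linear_combination hT
  linear_combination -2 * hsum - 2 * eU - eT

theorem two_classes :
    ∃ g₁ g₂ : Cfsg.Sz F m, InE g₁ ∧ InE g₂ ∧
      (∀ g : Cfsg.Sz F m, InE g → g ∈ conjSet (cen g₁) ∨ g ∈ conjSet (cen g₂)) ∧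
      Nat.card (cen g₁) * Nat.card (cen g₂) = Fintype.card F ^ 2 + 1 ∧
      Nat.card (cen g₁) + Nat.card (cen g₂) = 2 * Fintype.card F + 2 ∧
      (∀ g : Cfsg.Sz F m, InE g →
        Nat.card (Subgroup.normalizer (cen g : Set (Cfsg.Sz F m))) = 4 * Nat.card (cen g)) := by
  set q := Fintype.card F with hq
  have hq2 : 2 < q := h.two_lt_card hm
  set E := {g : Cfsg.Sz F m | InE g} with hE
  have hcount := inE_count h hm
  rw [← hq, ← hE] at hcount
  have hG := h.card_group hm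
  rw [← hq] at hG
  set n := Nat.card (Cfsg.Sz F m) with hn
  have hsub : ∀ {g : Cfsg.Sz F m}, InE g → conjSet (cen g) ⊆ E := fun hg y hy => (conjSet_inE h hm hg hy).1
  have hdvd : ∀ p k : ℕ, p.Prime → p ^ k ∣ q ^ 2 + 1 → 0 < k →
      ∃ u : Cfsg.Sz F m, InE u ∧ p ^ k ∣ Nat.card (cen u) := by
    intro p k hp hk hk0
    haveI : Fact p.Prime := ⟨hp⟩
    obtain ⟨H, hH⟩ := Sylow.exists_subgroup_card_pow_prime p (G := Cfsg.Sz F m) (n := k)
      (by rw [← hn, hG]; exact Dvd.dvd.mul_right (Dvd.dvd.mul_left hk _) _)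
    obtain ⟨P, hP⟩ := (IsPGroup.of_card hH).exists_le_sylow
    have hlt : 1 < Nat.card H := by rw [hH]; exact Nat.one_lt_pow hk0.ne' hp.one_lt
    haveI : Nontrivial H := Finite.one_lt_card_iff_nontrivial.1 hlt
    obtain ⟨⟨u, hu⟩, hu1⟩ := exists_ne (1 : H)
    have hu1' : u ≠ 1 := fun z => hu1 (Subtype.ext z)
    obtain ⟨hE', hle⟩ := sylow_le h hm ((dvd_pow_self p hk0.ne').trans hk) P (hP hu) hu1'
    exact ⟨u, hE', hH ▸ Subgroup.card_dvd_of_le (hP.trans hle)⟩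
  obtain ⟨r, hr, hrd⟩ := Nat.exists_prime_and_dvd (show q ^ 2 + 1 ≠ 1 by have : 0 < q ^ 2 := pow_pos (by omega) 2; omega)
  obtain ⟨g₁, h1, -⟩ := hdvd r 1 hr (by rwa [pow_one]) one_pos
  obtain ⟨e₁, he1, hN1, hc1⟩ := class_eq h hm h1
  set a := Nat.card (cen g₁) with ha
  set s₁ := Nat.card (conjSet (cen g₁)) with hs1
  rw [← hn] at hc1
  have ha5 : 5 ≤ a := five_le h hm h1
  -- there is a second class
  obtain ⟨g₂, h2, h21⟩ : ∃ g₂, InE g₂ ∧ g₂ ∉ conjSet (cen g₁) := by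
    by_contra hall
    push Not at hall
    have hEq : conjSet (cen g₁) = E := Set.Subset.antisymm (hsub h1) hall
    have haq : q ^ 2 + 1 ∣ a := by
      refine (Nat.dvd_iff_prime_pow_dvd_dvd _ _).2 fun p k hp hk => ?_
      rcases Nat.eq_zero_or_pos k with rfl | hk0
      · simp
      obtain ⟨u, hu, hud⟩ := hdvd p k hp hk hk0
      rwa [(conjSet_eq h hm h1 (hall u hu)).2] at hud
    have haeq : a = q ^ 2 + 1 := Nat.dvd_antisymm (torus_card_dvd h hm h1) haq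
    rw [← hEq, ← hs1] at hcount
    rw [haeq, Nat.add_sub_cancel, hG] at hc1
    zify [(by omega : 1 ≤ q)] at hcount hc1
    have key : 2 * (q : ℤ) = (e₁ : ℤ) * ((q : ℤ) - 1) := by
      refine mul_left_cancel₀ (show (q : ℤ) ^ 3 * ((q : ℤ) - 1) * ((q : ℤ) ^ 2 + 1) ≠ 0 from
        mul_ne_zero (mul_ne_zero (pow_ne_zero _ (by omega)) (by omega)) (by positivity)) ?_
      linear_combination -2 * hc1 + (e₁ : ℤ) * ((q : ℤ) ^ 2 + 1) * hcount
    simp only [Finset.mem_insert, Finset.mem_singleton] at he1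
    obtain ⟨-, k, hk⟩ := card_facts h hm
    rw [← hq] at hk
    rcases he1 with rfl | rfl | rfl <;> push_cast at key <;> omega
  obtain ⟨e₂, he2, hN2, hc2⟩ := class_eq h hm h2
  set b := Nat.card (cen g₂) with hb
  set s₂ := Nat.card (conjSet (cen g₂)) with hs2
  rw [← hn] at hc2
  have hb5 : 5 ≤ b := five_le h hm h2
  have hd12 : Disjoint (conjSet (cen g₁)) (conjSet (cen g₂)) := Set.disjoint_left.2 fun y y1 y2 => h21 (by
    rw [← (conjSet_eq h hm h1 y1).1, (conjSet_eq h hm h2 y2).1]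
    exact self_mem_conjSet h hm h2)
  -- a class with `e ∣ 4` and `c ≥ 5` is large
  have big : ∀ e c s : ℕ, e ∈ ({1, 2, 4} : Finset ℕ) → 5 ≤ c → s * (e * c) = (c - 1) * n →
      n ≤ 5 * s ∧ (e ≠ 4 → 2 * n ≤ 5 * s) := by
    intro e c s he hc heq
    have h4 : 4 * c * n ≤ 5 * ((c - 1) * n) := by
      rw [← mul_assoc]; exact Nat.mul_le_mul_right _ (by omega)
    rw [← heq] at h4
    simp only [Finset.mem_insert, Finset.mem_singleton] at he
    have key : 4 * n ≤ 5 * e * s := Nat.le_of_mul_le_mul_right (show 4 * n * c ≤ 5 * e * s * c by nlinarith) (by omega)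
    rcases he with rfl | rfl | rfl <;> constructor <;> intros <;> omega
  obtain ⟨b1, b1'⟩ := big e₁ a s₁ he1 ha5 hc1
  obtain ⟨b2, b2'⟩ := big e₂ b s₂ he2 hb5 hc2
  have hsmall : 2 * Nat.card E < n := by
    rw [hcount, hG]
    calc q ^ 3 * (q - 1) ^ 2 = q ^ 2 * (q - 1) * (q * (q - 1)) := by ring
      _ < q ^ 2 * (q - 1) * (q ^ 2 + 1) := by
          refine Nat.mul_lt_mul_of_pos_left ?_ (Nat.mul_pos (pow_pos (by omega) 2) (by omega))
          have : q * (q - 1) ≤ q * q := Nat.mul_le_mul_left _ (by omega)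
          rw [sq]; omega
      _ = q ^ 2 * (q ^ 2 + 1) * (q - 1) := by ring
  have hcover : ∀ g, InE g → g ∈ conjSet (cen g₁) ∨ g ∈ conjSet (cen g₂) := by
    intro g hg
    by_contra hc
    push Not at hc
    obtain ⟨e₃, he3, -, hc3⟩ := class_eq h hm hg
    obtain ⟨b3, -⟩ := big e₃ _ _ he3 (five_le h hm hg) (hn ▸ hc3)
    have hd : Disjoint (conjSet (cen g₁) ∪ conjSet (cen g₂)) (conjSet (cen g)) :=
      Set.disjoint_left.2 fun y y12 y3 => by
        rcases y12 with y1 | y2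
        · exact hc.1 (by
            rw [← (conjSet_eq h hm h1 y1).1, (conjSet_eq h hm hg y3).1]
            exact self_mem_conjSet h hm hg)
        · exact hc.2 (by
            rw [← (conjSet_eq h hm h2 y2).1, (conjSet_eq h hm hg y3).1]
            exact self_mem_conjSet h hm hg)
    have hle := Set.ncard_le_ncard (Set.union_subset (Set.union_subset (hsub h1) (hsub h2)) (hsub hg))
      (Set.toFinite _)
    rw [Set.ncard_union_eq hd (Set.toFinite _) (Set.toFinite _),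
      Set.ncard_union_eq hd12 (Set.toFinite _) (Set.toFinite _), ← Nat.card_coe_set_eq,
      ← Nat.card_coe_set_eq, ← Nat.card_coe_set_eq, ← Nat.card_coe_set_eq, ← hs1, ← hs2] at hle
    omega
  have hEeq : Nat.card E = s₁ + s₂ := by
    have : E = conjSet (cen g₁) ∪ conjSet (cen g₂) :=
      Set.Subset.antisymm hcover (Set.union_subset (hsub h1) (hsub h2))
    rw [hs1, hs2, Nat.card_coe_set_eq, this, Set.ncard_union_eq hd12 (Set.toFinite _) (Set.toFinite _),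
      Nat.card_coe_set_eq, Nat.card_coe_set_eq]
  have he14 : e₁ = 4 := by by_contra hne; have := b1' hne; omega
  have he24 : e₂ = 4 := by by_contra hne; have := b2' hne; omega
  subst he14 he24
  have hab : a * b = q ^ 2 + 1 := by
    refine Nat.dvd_antisymm ((coprime_of_notMem h hm h1 h2 h21).mul_dvd_of_dvd_of_dvd
      (torus_card_dvd h hm h1) (torus_card_dvd h hm h2)) ?_
    refine (Nat.dvd_iff_prime_pow_dvd_dvd _ _).2 fun p k hp hk => ?_
    rcases Nat.eq_zero_or_pos k with rfl | hk0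
    · simp
    obtain ⟨u, hu, hud⟩ := hdvd p k hp hk hk0
    rcases hcover u hu with hu1 | hu2
    · rw [(conjSet_eq h hm h1 hu1).2] at hud; exact hud.mul_right b
    · rw [(conjSet_eq h hm h2 hu2).2] at hud; exact hud.mul_left a
  have hsumab : a + b = 2 * q + 2 := by
    rw [hEeq] at hcount
    rw [hG] at hc1 hc2
    zify [(by omega : 1 ≤ q), (by omega : 1 ≤ a), (by omega : 1 ≤ b)] at hcount hc1 hc2 hab ⊢
    have hne : (q : ℤ) ^ 2 * ((q : ℤ) ^ 2 + 1) * ((q : ℤ) - 1) ≠ 0 :=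
      mul_ne_zero (mul_ne_zero (pow_ne_zero _ (by omega)) (by positivity)) (by omega)
    refine mul_left_cancel₀ hne ?_
    linear_combination -2 * (a * b : ℤ) * hcount + (b : ℤ) * hc1 + (a : ℤ) * hc2 +
      (2 * (q : ℤ) ^ 2 * ((q : ℤ) - 1) * ((q : ℤ) ^ 2 + 1) - 2 * (q : ℤ) ^ 3 * ((q : ℤ) - 1) ^ 2) * hab
  refine ⟨g₁, g₂, h1, h2, hcover, hab, hsumab, fun g hg => ?_⟩
  obtain ⟨e₃, he3, hN3, hc3⟩ := class_eq h hm hg
  rcases hcover g hg with hgc | hgc
  · obtain ⟨hS, hC⟩ := conjSet_eq h hm h1 hgc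
    rw [hS, hC, ← hn, ← ha, ← hs1] at hc3
    rw [hN3]
    congr 1
    exact Nat.eq_of_mul_eq_mul_right (by omega : 0 < a)
      (Nat.eq_of_mul_eq_mul_left (by omega : 0 < s₁) (hc3.trans hc1.symm))
  · obtain ⟨hS, hC⟩ := conjSet_eq h hm h2 hgc
    rw [hS, hC, ← hn, ← hb, ← hs2] at hc3
    rw [hN3]
    congr 1
    exact Nat.eq_of_mul_eq_mul_right (by omega : 0 < b)
      (Nat.eq_of_mul_eq_mul_left (by omega : 0 < s₂) (hc3.trans hc2.symm))

/-- The two orders of the fixed-point-free tori. -/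
theorem torus_orders :
    (∀ g : Cfsg.Sz F m, InE g → Nat.card (cen g) ∈
      ({2 ^ (2 * m + 1) + 2 ^ (m + 1) + 1, 2 ^ (2 * m + 1) - 2 ^ (m + 1) + 1} : Set ℕ)) ∧
    ∀ k ∈ ({2 ^ (2 * m + 1) + 2 ^ (m + 1) + 1, 2 ^ (2 * m + 1) - 2 ^ (m + 1) + 1} : Set ℕ),
      ∃ g : Cfsg.Sz F m, InE g ∧ Nat.card (cen g) = k := by
  obtain ⟨g₁, g₂, h1, h2, hcov, hab, hsum, -⟩ := two_classes h hm
  rw [h.card] at hab hsum
  set a := Nat.card (cen g₁)
  set b := Nat.card (cen g₂)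
  set q := 2 ^ (2 * m + 1) with hq
  set r := 2 ^ (m + 1) with hr
  have hr2 : r ^ 2 = 2 * q := by rw [hr, hq, ← pow_mul, ← pow_succ']; ring_nf
  have hle : r ≤ q := Nat.pow_le_pow_right (by norm_num) (by omega)
  have key : (a = q + r + 1 ∧ b = q - r + 1) ∨ (a = q - r + 1 ∧ b = q + r + 1) := by
    zify at hab hsum hr2
    have : ((a : ℤ) - (q + r + 1)) * ((a : ℤ) - (q - r + 1)) = 0 := by
      linear_combination -hab + (a : ℤ) * hsum - hr2
    rcases mul_eq_zero.1 this with z | z <;> omega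
  refine ⟨fun g hg => ?_, fun k hk => ?_⟩
  · simp only [Set.mem_insert_iff, Set.mem_singleton_iff]
    rcases hcov g hg with hgc | hgc
    · rw [(conjSet_eq h hm h1 hgc).2]; omega
    · rw [(conjSet_eq h hm h2 hgc).2]; omega
  · simp only [Set.mem_insert_iff, Set.mem_singleton_iff] at hk
    rcases key with ⟨ka, kb⟩ | ⟨ka, kb⟩ <;> rcases hk with rfl | rfl
    · exact ⟨g₁, h1, ka⟩
    · exact ⟨g₂, h2, kb⟩
    · exact ⟨g₂, h2, kb⟩
    · exact ⟨g₁, h1, ka⟩

end Cfsg.Agent.Lib.SzTori
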