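import Cfsg.Agent.Lib.SzElements.Basic
import Cfsg.Agent.Lib.LieTwisted.SuzukiSylow
import Cfsg.Agent.Lib.Singer.Primitive
import Mathlib

/-! Elements of the Suzuki groups: those with a fixed point, and the fixed-point-free tori. -/

set_option autoImplicit false
set_option linter.unusedSectionVars false

namespace Cfsg.Agent.Lib.SzTori

open Cfsg.Agent.Lib.LieTwisted.Suzuki Cfsg.Agent.Lib.SzElements.Basic

variable {F : Type*} [Field F] [Fintype F] {m : ℕ}

/-- The element fixes a point of the ovoid. -/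
def HasFix (g : Cfsg.Sz F m) : Prop := ∃ p : Option (F × F), g • opt m p = opt m p

/-- A non-trivial element of order dividing `q ^ 2 + 1`. -/
def InE (g : Cfsg.Sz F m) : Prop := g ≠ 1 ∧ g ^ (Fintype.card F ^ 2 + 1) = 1

theorem comm_of_cyclic {G : Type*} [Group G] {H : Subgroup G} (hH : IsCyclic H) {a b : G}
    (ha : a ∈ H) (hb : b ∈ H) : a * b = b * a := by
  obtain ⟨g, hg⟩ := hH.exists_generator
  obtain ⟨i, hi⟩ := Subgroup.mem_zpowers_iff.1 (hg ⟨a, ha⟩)
  obtain ⟨j, hj⟩ := Subgroup.mem_zpowers_iff.1 (hg ⟨b, hb⟩)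
  exact congrArg Subtype.val (show (⟨a, ha⟩ : H) * ⟨b, hb⟩ = ⟨b, hb⟩ * ⟨a, ha⟩ by
    rw [← hi, ← hj, ← zpow_add, ← zpow_add, add_comm])

theorem cyclic_of_le {G : Type*} [Group G] {H K : Subgroup G} (hK : IsCyclic K) (hle : H ≤ K) :
    IsCyclic H := by
  haveI := hK
  exact isCyclic_of_injective (Subgroup.inclusion hle) (Subgroup.inclusion_injective hle)

theorem mem_centralizer_iff' {G : Type*} [Group G] {g c : G} :
    c ∈ Subgroup.centralizer ({g} : Set G) ↔ g * c = c * g := by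
  simp [Subgroup.mem_centralizer_iff]

theorem centralizer_conj {G : Type*} [Group G] (x u : G) :
    Subgroup.centralizer ({x * u * x⁻¹} : Set G) =
      (Subgroup.centralizer ({u} : Set G)).map (MulAut.conj x).toMonoidHom := by
  ext c
  simp only [Subgroup.mem_map, mem_centralizer_iff', MulEquiv.coe_toMonoidHom, MulAut.conj_apply]
  constructor
  · intro hc
    refine ⟨x⁻¹ * c * x, ?_, by group⟩
    have := congrArg (fun z => x⁻¹ * z * x) hc
    simpa [mul_assoc] using this
  · rintro ⟨d, hd, rfl⟩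
    have := congrArg (fun z => x * z * x⁻¹) hd
    simpa [mul_assoc] using this

variable (h : IsSzField F m) (hm : 1 ≤ m)
include h hm

theorem mu_ne_one {e : Fˣ} (he : e ≠ 1) : sg m (e : F) * (e : F) ^ 2 ≠ 1 := by
  intro h3
  have h4 := congrArg (sg m) h3
  rw [sg_mul, sg_pow, h.sg_sg, sg_one] at h4
  haveI := h.charTwo
  have h5 : sg m (e : F) * e = 1 := CharTwo.sq_injective (by linear_combination h4)
  exact he (Units.ext (by rw [Units.val_one]; linear_combination h3 - (e : F) * h5))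

theorem sg_ne_one {e : Fˣ} (he : e ≠ 1) : sg m (e : F) ≠ 1 := fun z =>
  he (Units.ext (h.sg_injective (z.trans sg_one.symm)))

theorem inv_ne_self {e : Fˣ} (he : e ≠ 1) : e⁻¹ ≠ e := by
  intro hc
  haveI := h.charTwo
  have h1 : (e : F) * (e : F) = 1 := by
    rw [← Units.val_mul]; nth_rewrite 1 [← hc]; rw [inv_mul_cancel, Units.val_one]
  exact he (Units.ext (CharTwo.sq_injective (show (e : F) ^ 2 = (1 : F) ^ 2 by rw [sq, h1, one_pow])))

theorem exists_to (p : Option (F × F)) :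
    ∃ x : Cfsg.Sz F m, x • opt m (none : Option (F × F)) = opt m p := by
  rcases p with _ | ⟨a, b⟩
  · exact ⟨1, one_smul _ _⟩
  · exact ⟨uS h a b * wS h, by rw [mul_smul, h.wS_smul_none, h.uS_smul_zero]⟩

theorem exists_opt (g : Cfsg.Sz F m) (p : Option (F × F)) : ∃ r, g • opt m p = opt m r := by
  obtain ⟨x, hx⟩ := exists_to h hm p
  obtain ⟨r, hr⟩ := h.exists_opt_eq_smul hm (g * x)
  exact ⟨r, by rw [← hx, ← mul_smul, hr]⟩

theorem hasFix_conj {g : Cfsg.Sz F m} (x : Cfsg.Sz F m) (hg : HasFix g) : HasFix (x * g * x⁻¹) := by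
  obtain ⟨p, hp⟩ := hg
  obtain ⟨r, hr⟩ := exists_opt h hm x p
  exact ⟨r, by rw [← hr, mul_smul, mul_smul, inv_smul_smul, hp]⟩

theorem fix_dS {e : Fˣ} (he : e ≠ 1) {p : Option (F × F)} (hp : dS h e • opt m p = opt m p) :
    p = none ∨ p = some (0, 0) := by
  rcases p with _ | ⟨a, b⟩
  · exact Or.inl rfl
  · by_contra hne
    push Not at hne
    exact he (h.dS_injective ((h.fix_three hm (h.dS_smul_none e) (h.dS_smul_zero e)
      (fun z => hne.2 (by rw [z.1, z.2])) hp).trans (map_one _).symm))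

theorem conj_dS_cases {g : Cfsg.Sz F m} {e f : Fˣ} (he : e ≠ 1)
    (hc : g * dS h e * g⁻¹ = dS h f) :
    (∃ a, g = dS h a ∧ f = e) ∨ ∃ a, g = wS h * dS h a ∧ f = e⁻¹ := by
  have hf : f ≠ 1 := fun z => he (h.dS_injective (by
    rw [map_one, ← conj_eq_one_iff (a := g), hc, z, map_one]))
  have himg : ∀ p : Option (F × F), dS h e • opt m p = opt m p → ∀ r : Option (F × F),
      g • opt m p = opt m r → r = none ∨ r = some ((0 : F), (0 : F)) := fun p hp r hr => fix_dS h hm hf (by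
    rw [← hr, ← hc, mul_smul, mul_smul, inv_smul_smul, hp])
  obtain ⟨r1, hr1⟩ := exists_opt h hm g none
  obtain ⟨r2, hr2⟩ := exists_opt h hm g (some (0, 0))
  have hne : r1 ≠ r2 := fun z => by
    rw [z, ← hr2] at hr1
    exact absurd (opt_injective (MulAction.injective g hr1)) (by simp)
  rcases himg _ (h.dS_smul_none e) _ hr1 with rfl | rfl
  · rcases himg _ (h.dS_smul_zero e) _ hr2 with rfl | rfl
    · exact absurd rfl hne
    obtain ⟨a, rfl⟩ := h.eq_of_fix_two hm hr1 hr2
    refine Or.inl ⟨a, rfl, h.dS_injective ?_⟩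
    rw [← hc, ← map_mul, ← map_inv, ← map_mul, mul_inv_cancel_comm]
  · rcases himg _ (h.dS_smul_zero e) _ hr2 with rfl | rfl
    · obtain ⟨a, ha⟩ := h.eq_of_fix_two hm (g := wS h * g)
        (by rw [mul_smul, hr1, h.wS_smul_zero]) (by rw [mul_smul, hr2, h.wS_smul_none])
      have hg : g = wS h * dS h a := by rw [← ha, ← mul_assoc, h.wS_mul_self, one_mul]
      refine Or.inr ⟨a, hg, h.dS_injective ?_⟩
      rw [← hc, hg, mul_inv_rev, mul_assoc (wS h), ← mul_assoc, mul_assoc (wS h), ← map_mul,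
        ← map_inv, mul_assoc (wS h), ← map_mul, mul_inv_cancel_comm, h.wS_inv, ← mul_assoc, h.wS_mul_dS, mul_assoc, h.wS_mul_self, mul_one]
    · exact absurd rfl hne

theorem pow_four_of_mem {u : Cfsg.Sz F m} (hu : u ∈ unip h) : u ^ 4 = 1 := by
  obtain ⟨a, b, rfl⟩ := hu
  show uS h a b ^ (2 * 2) = 1
  rw [pow_mul, h.uS_sq, h.uS_sq, sg_zero, zero_mul, h.uS_zero]

theorem dS_pow_card (e : Fˣ) : dS h e ^ (Fintype.card F - 1) = 1 := by
  classical
  rw [← map_pow, ← Fintype.card_units, pow_card_eq_one, map_one]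

theorem borel_cases {a b : F} {e : Fˣ} (he : e ≠ 1) :
    ∃ x y, (uS h x y)⁻¹ * (uS h a b * dS h e) * uS h x y = dS h e := by
  have d1 : 1 + sg m (e : F) ≠ 0 := fun z => sg_ne_one h hm he (by linear_combination z - h.two0)
  have d2 : 1 + sg m (e : F) * (e : F) ^ 2 ≠ 0 := fun z => mu_ne_one h hm he (by linear_combination z - h.two0)
  refine ⟨a / (1 + sg m (e : F)), (b + sg m a * (sg m (e : F) * (a / (1 + sg m (e : F))))) /
    (1 + sg m (e : F) * (e : F) ^ 2), ?_⟩
  set x := a / (1 + sg m (e : F)) with hx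
  set y := (b + sg m a * (sg m (e : F) * x)) / (1 + sg m (e : F) * (e : F) ^ 2) with hy
  have e1 : x * (1 + sg m (e : F)) = a := div_mul_cancel₀ a d1
  have e2 : y * (1 + sg m (e : F) * (e : F) ^ 2) = b + sg m a * (sg m (e : F) * x) := div_mul_cancel₀ _ d2
  rw [mul_assoc, inv_mul_eq_iff_eq_mul, mul_assoc, h.dS_mul_uS, ← mul_assoc, h.uS_mul]
  congr 2
  · linear_combination -e1 + (sg m (e : F) * x) * h.two0
  · linear_combination -e2 + (sg m (e : F) * (e : F) ^ 2 * y) * h.two0

theorem fix_cases {g : Cfsg.Sz F m} (hf : HasFix g) :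
    ∃ x : Cfsg.Sz F m, x⁻¹ * g * x ∈ unip h ∨ ∃ e : Fˣ, e ≠ 1 ∧ x⁻¹ * g * x = dS h e := by
  obtain ⟨p, hp⟩ := hf
  obtain ⟨x, hx⟩ := exists_to h hm p
  obtain ⟨a, b, e, hab⟩ := h.eq_of_fix_none hm (g := x⁻¹ * g * x)
    (by rw [mul_smul, hx, mul_smul, hp, ← hx, inv_smul_smul])
  by_cases he : e = 1
  · refine ⟨x, Or.inl ?_⟩
    rw [hab, he, map_one, mul_one]
    exact h.uS_mem a b
  · obtain ⟨c, d, hcd⟩ := borel_cases h hm (a := a) (b := b) he
    refine ⟨x * uS h c d, Or.inr ⟨e, he, ?_⟩⟩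
    rw [← hcd, ← hab]
    group

theorem hasFix_unip {u : Cfsg.Sz F m} (hu : u ∈ unip h) : HasFix u := by
  obtain ⟨a, b, rfl⟩ := hu
  exact ⟨none, h.uS_smul_none a b⟩

theorem hasFix_dS (e : Fˣ) : HasFix (dS h e) := ⟨none, h.dS_smul_none e⟩

/-- The centraliser of a non-trivial element of the unipotent radical lies in it. -/
theorem centralizer_unip_le {u : Cfsg.Sz F m} (hu : u ∈ unip h) (hu1 : u ≠ 1) :
    Subgroup.centralizer ({u} : Set (Cfsg.Sz F m)) ≤ unip h := by
  obtain ⟨a, b, rfl⟩ := hu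
  intro g hg
  rw [mem_centralizer_iff'] at hg
  have hne : ¬ (a = 0 ∧ b = 0) := fun z => hu1 (by rw [z.1, z.2, h.uS_zero])
  have hk : g * uS h a b * g⁻¹ = uS h a b := by rw [← hg, mul_inv_cancel_right]
  obtain ⟨c, d, e, rfl⟩ := borel_of_conj h hm hne hne hk
  suffices he : e = 1 by rw [he, map_one, mul_one]; exact h.uS_mem c d
  by_contra he
  rw [conj_uS] at hk
  obtain ⟨h1, h2⟩ := h.uS_coords_inj hk
  by_cases ha : a = 0
  · subst ha
    simp only [mul_zero, sg_zero, zero_mul, add_zero] at h2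
    exact mu_ne_one h hm he (mul_right_cancel₀ (fun z => hne ⟨rfl, z⟩) (by rw [h2, one_mul]))
  · exact sg_ne_one h hm he (mul_right_cancel₀ ha (by rw [h1, one_mul]))

/-- The centraliser of a non-trivial element of the split torus is that torus. -/
theorem centralizer_dS {e : Fˣ} (he : e ≠ 1) :
    Subgroup.centralizer ({dS h e} : Set (Cfsg.Sz F m)) = (dS h).range := by
  ext g
  rw [mem_centralizer_iff', MonoidHom.mem_range]
  constructor
  · intro hg
    rcases conj_dS_cases h hm (g := g) (f := e) he (by rw [← hg, mul_inv_cancel_right]) with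
      ⟨a, ha, -⟩ | ⟨a, -, ha⟩
    · exact ⟨a, ha.symm⟩
    · exact absurd ha.symm (inv_ne_self h hm he)
  · rintro ⟨a, rfl⟩
    rw [← map_mul, ← map_mul, mul_comm]

theorem fix_of_commute {g u : Cfsg.Sz F m} (hu : HasFix u) (hu1 : u ≠ 1) (hc : u * g = g * u) :
    HasFix g := by
  obtain ⟨x, hx⟩ := fix_cases h hm hu
  have hg : x⁻¹ * g * x ∈ Subgroup.centralizer ({x⁻¹ * u * x} : Set (Cfsg.Sz F m)) := by
    rw [mem_centralizer_iff']
    calc x⁻¹ * u * x * (x⁻¹ * g * x) = x⁻¹ * (u * g) * x := by group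
      _ = x⁻¹ * (g * u) * x := by rw [hc]
      _ = x⁻¹ * g * x * (x⁻¹ * u * x) := by group
  have hne : x⁻¹ * u * x ≠ 1 := fun z => hu1 (by simpa [mul_assoc] using congrArg (fun w => x * w * x⁻¹) z)
  have : HasFix (x⁻¹ * g * x) := by
    rcases hx with hx | ⟨e, he, hx⟩
    · exact hasFix_unip h hm (centralizer_unip_le h hm hx hne hg)
    · rw [hx, centralizer_dS h hm he] at hg
      obtain ⟨a, ha⟩ := hg
      rw [← ha]; exact hasFix_dS h hm a
  have := hasFix_conj h hm x this
  simpa [mul_assoc] using this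

/-! Arithmetic of the order. -/

theorem card_facts : 2 < Fintype.card F ∧ Even (Fintype.card F) := by
  refine ⟨h.two_lt_card hm, ?_⟩
  rw [h.card, Nat.even_pow]
  exact ⟨even_two, by omega⟩

theorem prime_facts {r : ℕ} (hr : r.Prime) (hd : r ∣ Fintype.card F ^ 2 + 1) :
    5 ≤ r ∧ ¬ r ∣ Fintype.card F ^ 2 * (Fintype.card F - 1) := by
  obtain ⟨hq, k, hk⟩ := card_facts h hm
  set q := Fintype.card F with hqdef
  have h2 : r ≠ 2 := by
    rintro rfl
    obtain ⟨j, hj⟩ := hd
    rw [hk] at hj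
    ring_nf at hj
    omega
  have h3 : r ≠ 3 := by
    rintro rfl
    have := Nat.pow_mod q 2 3
    have hlt := Nat.mod_lt q (by norm_num : 3 > 0)
    interval_cases hq3 : q % 3 <;> omega
  refine ⟨?_, ?_⟩
  · have := hr.two_le
    by_contra hlt
    interval_cases r <;> simp_all (config := { decide := true })
  · intro hc
    rcases hr.dvd_mul.1 hc with h' | h'
    · exact hr.not_dvd_one ((Nat.dvd_add_right h').1 hd)
    · have h'' : r ∣ q ^ 2 - 1 := h'.trans ⟨q + 1, by
        have : 1 ≤ q := by omega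
        zify [this, Nat.one_le_pow 2 q (by omega)]; ring⟩
      have h4 : r ∣ 2 := by
        have := Nat.dvd_sub hd h''
        rwa [show q ^ 2 + 1 - (q ^ 2 - 1) = 2 by have := Nat.one_le_pow 2 q (by omega); omega] at this
      exact h2 ((Nat.prime_dvd_prime_iff_eq hr Nat.prime_two).1 h4)

theorem coprime_card : (Fintype.card F ^ 2 + 1).Coprime (Fintype.card F ^ 2 * (Fintype.card F - 1)) :=
  Nat.coprime_of_dvd fun r hr h1 h2 => (prime_facts h hm hr h1).2 h2

theorem four_dvd : 4 ∣ Fintype.card F ^ 2 * (Fintype.card F - 1) := by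
  obtain ⟨-, k, hk⟩ := card_facts h hm
  exact Dvd.dvd.mul_right ⟨k ^ 2, by rw [hk]; ring⟩ _

theorem not_fix_of_inE {g : Cfsg.Sz F m} (hg : InE g) : ¬ HasFix g := by
  intro hf
  obtain ⟨x, hx⟩ := fix_cases h hm hf
  have h1 : (x⁻¹ * g * x) ^ (Fintype.card F ^ 2 * (Fintype.card F - 1)) = 1 := by
    rcases hx with hx | ⟨e, -, hx⟩
    · obtain ⟨k, hk⟩ := four_dvd h hm
      rw [hk, pow_mul, pow_four_of_mem h hm hx, one_pow]
    · rw [hx, mul_comm, pow_mul, dS_pow_card h hm e, one_pow]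
  have h1' : g ^ (Fintype.card F ^ 2 * (Fintype.card F - 1)) = 1 := by
    have := congrArg (fun w => x * w * x⁻¹) h1
    rw [← conj_pow] at this
    simpa [mul_assoc] using this
  have h2 : g ^ Nat.gcd (Fintype.card F ^ 2 + 1) (Fintype.card F ^ 2 * (Fintype.card F - 1)) = 1 :=
    pow_gcd_eq_one.2 ⟨hg.2, h1'⟩
  rw [coprime_card h hm, pow_one] at h2
  exact hg.1 h2

theorem fix_of_prime_order {u : Cfsg.Sz F m} {p : ℕ} (hp : p.Prime) (hu : orderOf u = p)
    (hd : p ∣ Fintype.card F ^ 2 * (Fintype.card F - 1)) : HasFix u := by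
  haveI : Fact p.Prime := ⟨hp⟩
  have hup : IsPGroup p (Subgroup.zpowers u) := IsPGroup.of_card (n := 1) (by rw [Nat.card_zpowers, hu, pow_one])
  obtain ⟨P, hP⟩ := hup.exists_le_sylow
  by_cases h2 : p = 2
  · subst h2
    obtain ⟨x, hx⟩ := h.conj_sylow hm P
    have := hP (Subgroup.mem_zpowers u)
    rw [hx] at this
    obtain ⟨v, hv, rfl⟩ := this
    exact hasFix_conj h hm x (hasFix_unip h hm hv)
  · have hd' : p ∣ Fintype.card F - 1 := by
      refine (hp.dvd_mul.1 hd).resolve_left fun h' => h2 ?_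
      rw [h.card, ← pow_mul] at h'
      exact (Nat.prime_dvd_prime_iff_eq hp Nat.prime_two).1 (hp.dvd_of_dvd_pow h')
    have hidx : ¬ p ∣ (dS h).range.index := by
      have hc := (dS h).range.card_mul_index
      rw [h.card_group hm, Nat.card_congr (MonoidHom.ofInjective h.dS_injective).symm.toEquiv,
        Nat.card_units, Nat.card_eq_fintype_card, mul_comm] at hc
      rw [Nat.eq_of_mul_eq_mul_right (by have := h.two_lt_card hm; omega) hc]
      intro h'
      rcases hp.dvd_mul.1 h' with h' | h'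
      · rw [h.card, ← pow_mul] at h'
        exact h2 ((Nat.prime_dvd_prime_iff_eq hp Nat.prime_two).1 (hp.dvd_of_dvd_pow h'))
      · exact (prime_facts h hm hp h').2 hd
    let S : Sylow p (dS h).range := default
    have hS : IsPGroup p ((S : Subgroup (dS h).range).map (dS h).range.subtype) := S.isPGroup'.map _
    let S' : Sylow p (Cfsg.Sz F m) := hS.toSylow (by
      rw [Subgroup.index_map_subtype]
      exact hp.not_dvd_mul S.not_dvd_index hidx)
    obtain ⟨x, hx⟩ := MulAction.exists_smul_eq (Cfsg.Sz F m) S' P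
    have := hP (Subgroup.mem_zpowers u)
    rw [← hx, Sylow.coe_subgroup_smul] at this
    obtain ⟨v, hv, rfl⟩ := this
    obtain ⟨w, -, rfl⟩ := hv
    obtain ⟨a, ha⟩ := w.2
    exact hasFix_conj h hm x ⟨none, by rw [Subgroup.coe_subtype, ← ha, h.dS_smul_none]⟩

theorem inE_of_not_fix {g : Cfsg.Sz F m} (hg : ¬ HasFix g) : InE g := by
  have hg1 : g ≠ 1 := fun z => hg ⟨none, by rw [z, one_smul]⟩
  refine ⟨hg1, orderOf_dvd_iff_pow_eq_one.1 ?_⟩
  have hn := orderOf_dvd_natCard g
  rw [h.card_group hm, mul_comm (Fintype.card F ^ 2), mul_assoc] at hn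
  refine Nat.Coprime.dvd_of_dvd_mul_right (Nat.coprime_of_dvd fun p hp h1 h2 => hg ?_) hn
  have ho : orderOf (g ^ (orderOf g / p)) = p := orderOf_pow_orderOf_div (orderOf_pos g).ne' h1
  have hu1 : g ^ (orderOf g / p) ≠ 1 := fun z => hp.one_lt.ne' (by rw [← ho, z, orderOf_one])
  exact fix_of_commute h hm (fix_of_prime_order h hm hp ho h2) hu1 (Commute.pow_self g _).eq

theorem inE_iff {g : Cfsg.Sz F m} : InE g ↔ ¬ HasFix g :=
  ⟨not_fix_of_inE h hm, inE_of_not_fix h hm⟩

/-! Centralisers of fixed-point-free elements. -/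

/-- The natural representation. -/
noncomputable def rho (_h : IsSzField F m) (_hm : 1 ≤ m) : Cfsg.Sz F m →* Module.End F (Fin 4 → F) where
  toFun g := Matrix.toLinAlgEquiv' (mat g)
  map_one' := by rw [mat_one, map_one]
  map_mul' g k := by rw [mat_mul, map_mul]

theorem rho_injective : Function.Injective (rho h hm) := fun _ _ e =>
  mat_injective (Matrix.toLinAlgEquiv'.injective e)

theorem singer {u : Cfsg.Sz F m} {r : ℕ} (hr : r.Prime) (hu : orderOf u = r)
    (hd : r ∣ Fintype.card F ^ 2 + 1) :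
    orderOf (Fintype.card F : ZMod r) = 4 ∧
    IsField (Subalgebra.centralizer F ({rho h hm u} : Set (Module.End F (Fin 4 → F)))) ∧
      Nat.card (Subalgebra.centralizer F ({rho h hm u} : Set (Module.End F (Fin 4 → F)))) ≤
        Fintype.card F ^ 4 := by
  haveI : Fact r.Prime := ⟨hr⟩
  have h5 := (prime_facts h hm hr hd).1
  have hq2 : (Fintype.card F : ZMod r) ^ 2 = -1 := by
    have := (ZMod.natCast_eq_zero_iff _ r).2 hd
    push_cast at this
    exact eq_neg_of_add_eq_zero_left this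
  have hord : orderOf (Fintype.card F : ZMod r) = 4 := by
    refine orderOf_eq_prime_pow (p := 2) (n := 1) ?_ ?_
    · rw [pow_one, hq2]
      intro hc
      haveI : Fact (2 < r) := ⟨by omega⟩
      exact ZMod.neg_one_ne_one hc
    · rw [show (2 : ℕ) ^ (1 + 1) = 2 * 2 from rfl, pow_mul, hq2]; ring
  refine ⟨hord, ?_⟩
  have hr4 : Module.finrank F (Fin 4 → F) = 4 := Module.finrank_fin_fun F
  obtain ⟨h1, h2⟩ := Cfsg.Agent.Lib.Singer.exists_field_centralizer hr (by rw [hr4]; norm_num)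
    (by rw [hr4]; exact hord) (rho h hm u) (by rw [← map_pow, ← hu, pow_orderOf_eq_one, map_one])
    (fun z => hr.one_lt.ne' (by rw [← hu, (rho_injective h hm) (z.trans (map_one _).symm), orderOf_one]))
  refine ⟨h1, h2.trans ?_⟩
  rw [Nat.card_pi, Finset.prod_const, Finset.card_univ, Fintype.card_fin, Nat.card_eq_fintype_card]

theorem centralizer_prime_cyclic {u : Cfsg.Sz F m} {r : ℕ} (hr : r.Prime) (hu : orderOf u = r)
    (hd : r ∣ Fintype.card F ^ 2 + 1) :
    IsCyclic (Subgroup.centralizer ({u} : Set (Cfsg.Sz F m))) := by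
  obtain ⟨-, hK, -⟩ := singer h hm hr hu hd
  letI : Field (Subalgebra.centralizer F ({rho h hm u} : Set (Module.End F (Fin 4 → F)))) :=
    IsField.toField (R := ↥(Subalgebra.centralizer F ({rho h hm u} : Set (Module.End F (Fin 4 → F))))) hK
  let f : Subgroup.centralizer ({u} : Set (Cfsg.Sz F m)) →*
      Subalgebra.centralizer F ({rho h hm u} : Set (Module.End F (Fin 4 → F))) :=
    { toFun := fun c => ⟨rho h hm c, by
        rw [Subalgebra.mem_centralizer_iff]
        rintro _ rfl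
        rw [← map_mul, ← map_mul, mem_centralizer_iff'.1 c.2]⟩
      map_one' := Subtype.ext (map_one _)
      map_mul' := fun a b => Subtype.ext (map_mul _ _ _) }
  exact isCyclic_of_injective_ringHom f fun a b e => Subtype.ext (rho_injective h hm (congrArg Subtype.val e))

theorem exists_prime_power {g : Cfsg.Sz F m} (hg : InE g) :
    ∃ r : ℕ, r.Prime ∧ r ∣ Fintype.card F ^ 2 + 1 ∧ ∃ j, orderOf (g ^ j) = r := by
  obtain ⟨r, hr, hd⟩ := Nat.exists_prime_and_dvd (fun z => hg.1 (orderOf_eq_one_iff.1 z))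
  exact ⟨r, hr, hd.trans (orderOf_dvd_of_pow_eq_one hg.2), _,
    orderOf_pow_orderOf_div (orderOf_pos g).ne' hd⟩

theorem torus_cyclic {g : Cfsg.Sz F m} (hg : InE g) :
    IsCyclic (Subgroup.centralizer ({g} : Set (Cfsg.Sz F m))) := by
  obtain ⟨r, hr, hd, j, hj⟩ := exists_prime_power h hm hg
  refine cyclic_of_le (centralizer_prime_cyclic h hm hr hj hd) fun c hc => ?_
  rw [mem_centralizer_iff'] at hc ⊢
  exact (Commute.pow_left hc j).eq

theorem torus_inE {g c : Cfsg.Sz F m} (hg : InE g)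
    (hc : c ∈ Subgroup.centralizer ({g} : Set (Cfsg.Sz F m))) (hc1 : c ≠ 1) : InE c := by
  refine inE_of_not_fix h hm fun hf => not_fix_of_inE h hm hg (fix_of_commute h hm hf hc1 ?_)
  exact (mem_centralizer_iff'.1 hc).symm

theorem torus_eq {g c : Cfsg.Sz F m} (hg : InE g)
    (hc : c ∈ Subgroup.centralizer ({g} : Set (Cfsg.Sz F m))) (hc1 : c ≠ 1) :
    Subgroup.centralizer ({c} : Set (Cfsg.Sz F m)) = Subgroup.centralizer ({g} : Set (Cfsg.Sz F m)) := by
  have hg' : g ∈ Subgroup.centralizer ({c} : Set (Cfsg.Sz F m)) :=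
    mem_centralizer_iff'.2 (mem_centralizer_iff'.1 hc).symm
  apply le_antisymm
  · intro x hx
    exact mem_centralizer_iff'.2 (comm_of_cyclic (torus_cyclic h hm (torus_inE h hm hg hc hc1)) hg' hx)
  · intro x hx
    exact mem_centralizer_iff'.2 (comm_of_cyclic (torus_cyclic h hm hg) hc hx)

theorem torus_card_dvd {g : Cfsg.Sz F m} (hg : InE g) :
    Nat.card (Subgroup.centralizer ({g} : Set (Cfsg.Sz F m))) ∣ Fintype.card F ^ 2 + 1 := by
  haveI := torus_cyclic h hm hg
  obtain ⟨c, hc⟩ := IsCyclic.exists_ofOrder_eq_natCard (α := Subgroup.centralizer ({g} : Set (Cfsg.Sz F m)))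
  rw [← hc, ← Subgroup.orderOf_coe]
  refine orderOf_dvd_of_pow_eq_one ?_
  by_cases h1 : (c : Cfsg.Sz F m) = 1
  · rw [h1, one_pow]
  · exact (torus_inE h hm hg c.2 h1).2

theorem centralizer_cyclic {g : Cfsg.Sz F m} (hg : g ^ 4 ≠ 1) :
    IsCyclic (Subgroup.centralizer ({g} : Set (Cfsg.Sz F m))) := by
  by_cases hf : HasFix g
  · obtain ⟨x, hx⟩ := fix_cases h hm hf
    rcases hx with hx | ⟨e, he, hx⟩
    · exact absurd (by
        have := congrArg (fun w => x * w * x⁻¹) (pow_four_of_mem h hm hx)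
        rw [← conj_pow] at this
        simpa [mul_assoc] using this) hg
    · have hg' : g = x * dS h e * x⁻¹ := by rw [← hx]; group
      rw [hg', centralizer_conj, centralizer_dS h hm he]
      haveI : IsCyclic (dS h).range :=
        isCyclic_of_surjective (dS h).rangeRestrict (dS h).rangeRestrict_surjective
      exact isCyclic_of_surjective ((MulAut.conj x).toMonoidHom.subgroupMap _)
        ((MulAut.conj x).toMonoidHom.subgroupMap_surjective _)
  · exact torus_cyclic h hm (inE_of_not_fix h hm hf)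

end Cfsg.Agent.Lib.SzTori
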